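import Groth.Agent.Lib.FlatH4.InjCrit
import Groth.Agent.Lib.Depth.CM
import Groth.Agent.Lib.Depth.More
import Groth.Agent.Lib.Compl.Noetherian
import Mathlib.RingTheory.KrullDimension.Regular
import Mathlib.RingTheory.HopkinsLevitzki

/-!
Sequences regular on the special fibre of a flat algebra over an Artinian local ring.
-/

set_option autoImplicit false

universe u

open RingTheory.Sequence

namespace Groth.Agent.EmbDef

variable {C A : Type u} [CommRing C] [CommRing A] [Algebra C A]

theorem mem_smul_top_quot_iff (P : Ideal A) (L : Ideal C) (a : A) :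
    Ideal.Quotient.mk P a ∈ L • (⊤ : Submodule C (A ⧸ P)) ↔ a ∈ L.map (algebraMap C A) ⊔ P := by
  rw [Ideal.smul_top_eq_map, Submodule.restrictScalars_mem, IsScalarTower.algebraMap_eq C A (A ⧸ P),
    ← Ideal.map_map, Ideal.Quotient.algebraMap_eq, Ideal.mem_quotient_iff_mem_sup]

/-- An element regular on the special fibre of a flat family is regular, with flat cokernel. -/
theorem regular_step (m : Ideal C) [m.IsMaximal] (hm : IsNilpotent m) (P : Ideal A) [Module.Flat C (A ⧸ P)] (x : A)
    (hx : ∀ a, a * x ∈ m.map (algebraMap C A) ⊔ P → a ∈ m.map (algebraMap C A) ⊔ P) :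
    (∀ a, a * x ∈ P → a ∈ P) ∧ Module.Flat C (A ⧸ (P ⊔ Ideal.span {x})) := by
  let u : (A ⧸ P) →ₗ[C] (A ⧸ P) := (LinearMap.mulRight A (Ideal.Quotient.mk P x)).restrictScalars C
  have hu0 : Function.Injective (u.lTensor (C ⧸ m)) := by
    rw [injective_iff_map_eq_zero]
    intro z hz
    obtain ⟨v, rfl⟩ : ∃ v, (1 : C ⧸ m) ⊗ₜ[C] v = z := by
      clear hz
      induction z using TensorProduct.induction_on with
      | zero => exact ⟨0, TensorProduct.tmul_zero _ _⟩
      | tmul c v =>
        obtain ⟨c, rfl⟩ := Ideal.Quotient.mk_surjective c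
        refine ⟨c • v, ?_⟩
        rw [← TensorProduct.smul_tmul, Algebra.smul_def, mul_one]
        rfl
      | add a b ha hb =>
        obtain ⟨v, rfl⟩ := ha
        obtain ⟨w, rfl⟩ := hb
        exact ⟨v + w, TensorProduct.tmul_add _ _ _⟩
    rw [LinearMap.lTensor_tmul, FlatH4.one_tmul_eq_zero_iff] at hz
    rw [FlatH4.one_tmul_eq_zero_iff]
    obtain ⟨a, rfl⟩ := Ideal.Quotient.mk_surjective v
    rw [show u (Ideal.Quotient.mk P a) = Ideal.Quotient.mk P (a * x) from (map_mul (Ideal.Quotient.mk P) a x).symm,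
      mem_smul_top_quot_iff] at hz
    exact (mem_smul_top_quot_iff P m a).2 (hx a hz)
  have key : ∀ (I : Ideal C) (v : A ⧸ P), u v ∈ I • (⊤ : Submodule C (A ⧸ P)) → v ∈ I • (⊤ : Submodule C (A ⧸ P)) := by
    intro I v hv
    refine FlatH4.mem_smul_of_map_mem_smul_of_separated m u
      (fun V _ _ hV => FlatH4.lTensor_injective_of_isMaximal m u hu0 V hV) I (fun w hw => ?_) v hv
    obtain ⟨n, hn⟩ := hm
    simpa [hn] using hw n
  refine ⟨fun a ha => ?_, ?_⟩
  · have h0 := FlatH4.injective_of_map_mem_smul u key (a₁ := Ideal.Quotient.mk P a) (a₂ := 0) (by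
      rw [map_zero]
      exact (map_mul _ a x).symm.trans (Ideal.Quotient.eq_zero_iff_mem.2 ha))
    exact Ideal.Quotient.eq_zero_iff_mem.1 h0
  · have := FlatH4.flat_quotient_range u key
    let g : (A ⧸ P) →ₗ[C] A ⧸ (P ⊔ Ideal.span {x}) := (Ideal.Quotient.factorₐ C le_sup_left).toLinearMap
    have hg : Function.Surjective g := Ideal.Quotient.factor_surjective le_sup_left
    have hker : LinearMap.range u = LinearMap.ker g := by
      refine le_antisymm ?_ fun v hv => ?_
      · rintro _ ⟨v, rfl⟩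
        obtain ⟨a, rfl⟩ := Ideal.Quotient.mk_surjective v
        rw [LinearMap.mem_ker, show u (Ideal.Quotient.mk P a) = Ideal.Quotient.mk P (a * x) from (map_mul (Ideal.Quotient.mk P) a x).symm]
        exact Ideal.Quotient.eq_zero_iff_mem.2 (Ideal.mem_sup_right (Ideal.mem_span_singleton'.2 ⟨a, rfl⟩))
      · obtain ⟨a, rfl⟩ := Ideal.Quotient.mk_surjective v
        obtain ⟨p, hp, t, ht, e⟩ := Submodule.mem_sup.1 (Ideal.Quotient.eq_zero_iff_mem.1 (LinearMap.mem_ker.1 hv))
        obtain ⟨c, rfl⟩ := Ideal.mem_span_singleton'.1 ht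
        refine ⟨Ideal.Quotient.mk P c, ?_⟩
        rw [← e, map_add, Ideal.Quotient.eq_zero_iff_mem.2 hp, zero_add]
        exact (map_mul (Ideal.Quotient.mk P) c x).symm
    exact Module.Flat.of_linearEquiv
      ((Submodule.quotEquivOfEq _ _ hker) ≪≫ₗ g.quotKerEquivOfSurjective hg).symm

theorem regular_iff_ideal {R : Type u} [CommRing R] (P : Ideal R) (x : R) :
    IsSMulRegular (R ⧸ P) x ↔ ∀ a, a * x ∈ P → a ∈ P := by
  constructor
  · intro h a ha
    refine Ideal.Quotient.eq_zero_iff_mem.1 (h.right_eq_zero_of_smul ?_)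
    rw [Algebra.smul_def, Ideal.Quotient.algebraMap_eq, ← map_mul, mul_comm]
    exact Ideal.Quotient.eq_zero_iff_mem.2 ha
  · intro h
    refine IsSMulRegular.of_right_eq_zero_of_smul fun v hv => ?_
    obtain ⟨a, rfl⟩ := Ideal.Quotient.mk_surjective v
    rw [Algebra.smul_def, Ideal.Quotient.algebraMap_eq, ← map_mul, Ideal.Quotient.eq_zero_iff_mem, mul_comm] at hv
    exact Ideal.Quotient.eq_zero_iff_mem.2 (h a hv)

theorem isWeaklyRegular_self_iff {R : Type u} [CommRing R] (rs : List R) :
    IsWeaklyRegular R rs ↔ ∀ (i : ℕ) (h : i < rs.length), ∀ a, a * rs[i] ∈ Ideal.ofList (rs.take i) →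
      a ∈ Ideal.ofList (rs.take i) := by
  have e : ∀ I : Ideal R, (I • ⊤ : Submodule R R) = I := fun I => by rw [smul_eq_mul, Ideal.mul_top]
  refine ⟨fun h i hi => ?_, fun h => ⟨fun i hi => ?_⟩⟩
  · have h1 := h.regular_mod_prev i hi
    rw [e] at h1
    exact (regular_iff_ideal _ _).1 h1
  · rw [e]
    exact (regular_iff_ideal _ _).2 (h i hi)

theorem ofList_ofFn {R : Type u} [CommRing R] {r : ℕ} (a : Fin r → R) :
    Ideal.ofList (List.ofFn a) = Ideal.span (Set.range a) :=
  congrArg Ideal.span (Set.ext fun x => by simp [List.mem_ofFn'])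

/-- Regular sequences on the special fibre lift. -/
theorem isWeaklyRegular_lift (m : Ideal C) [m.IsMaximal] (hm : IsNilpotent m) [Module.Flat C A] (rs : List A)
    (h : IsWeaklyRegular (A ⧸ m.map (algebraMap C A)) (rs.map (Ideal.Quotient.mk (m.map (algebraMap C A))))) :
    IsWeaklyRegular A rs ∧ Module.Flat C (A ⧸ Ideal.ofList rs) := by
  rw [isWeaklyRegular_self_iff] at h
  have key : ∀ i ≤ rs.length, IsWeaklyRegular A (rs.take i) ∧ Module.Flat C (A ⧸ Ideal.ofList (rs.take i)) := by
    intro i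
    induction i with
    | zero =>
      intro _
      rw [List.take_zero, Ideal.ofList_nil]
      exact ⟨IsWeaklyRegular.nil A A, Module.Flat.of_linearEquiv (AlgEquiv.quotientBot C A).toLinearEquiv⟩
    | succ i ih =>
      intro hi
      obtain ⟨hw, hf⟩ := ih (by omega)
      have hstep := regular_step m hm (Ideal.ofList (rs.take i)) rs[i] fun a ha => by
        have h1 := h i (by simpa using Nat.lt_of_succ_le hi) (Ideal.Quotient.mk _ a)
        rw [List.getElem_map, ← List.map_take, ← map_mul, ← Ideal.map_ofList,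
          Ideal.mem_quotient_iff_mem_sup, Ideal.mem_quotient_iff_mem_sup, sup_comm] at h1
        exact h1 ha
      rw [← List.take_concat_get' rs i (by omega)]
      refine ⟨(isWeaklyRegular_append_iff A (rs.take i) [rs[i]]).2 ⟨hw, ?_⟩, ?_⟩
      · rw [isWeaklyRegular_singleton_iff, show (Ideal.ofList (rs.take i) • ⊤ : Submodule A A) = Ideal.ofList (rs.take i) by
          rw [smul_eq_mul, Ideal.mul_top]]
        exact (regular_iff_ideal _ _).2 hstep.1
      · rw [Ideal.ofList_append, Ideal.ofList_singleton]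
        exact hstep.2
  have h2 := key rs.length le_rfl
  rwa [List.take_length] at h2

theorem ringKrullDim_quotient_eq_of_radical {R : Type u} [CommRing R] {P Q : Ideal R} (h : P ≤ Q) (h' : Q ≤ P.radical) :
    ringKrullDim (R ⧸ P) = ringKrullDim (R ⧸ Q) := by
  have : PrimeSpectrum.zeroLocus (P : Set R) = PrimeSpectrum.zeroLocus (Q : Set R) := by
    refine le_antisymm ?_ (PrimeSpectrum.zeroLocus_anti_mono h)
    rw [← PrimeSpectrum.zeroLocus_radical P]
    exact PrimeSpectrum.zeroLocus_anti_mono h'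
  rw [ringKrullDim_quotient, ringKrullDim_quotient, this]

theorem isWeaklyRegular_of_dim {R : Type u} [CommRing R] [LocCoh.IsCohenMacaulayLocalRing R] (xs : List R)
    (hxs : ∀ x ∈ xs, x ∈ IsLocalRing.maximalIdeal R)
    (hdim : ringKrullDim (R ⧸ Ideal.ofList xs) + xs.length = ringKrullDim R) : IsWeaklyRegular R xs := by
  have hI : Ideal.ofList xs ≠ ⊤ := ne_top_of_le_ne_top (IsLocalRing.maximalIdeal.isMaximal R).ne_top
    (Ideal.span_le.2 hxs)
  refine DepthLib.isWeaklyRegular_of_length_le_idealDepth xs hxs ?_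
  have h := DepthLib.supportDim_eq_quotient_add_idealDepth (R := R) (M := R)
    LocCoh.IsCohenMacaulayLocalRing.supportDim_eq_depth hI
  rw [show (Ideal.ofList xs • ⊤ : Submodule R R) = Ideal.ofList xs by rw [smul_eq_mul, Ideal.mul_top],
    Module.supportDim_self_eq_ringKrullDim, Module.supportDim_quotient_eq_ringKrullDim, ← hdim] at h
  have : Nontrivial (R ⧸ Ideal.ofList xs) := Ideal.Quotient.nontrivial_iff.2 hI
  obtain ⟨d, hd⟩ := DepthLib.exists_ringKrullDim_quotient_eq_natCast (R := R) (Ideal.ofList xs) hI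
  rw [hd] at h
  have h' : ((d + xs.length : ℕ) : ℕ∞) = (d : ℕ∞) + LocCoh.idealDepth (Ideal.ofList xs) R := by exact_mod_cast h
  cases hg : LocCoh.idealDepth (Ideal.ofList xs) R with
  | top => simp
  | coe g =>
    rw [hg] at h'
    have : d + xs.length = d + g := by exact_mod_cast h'
    exact_mod_cast (by omega : xs.length ≤ g)

theorem isAdicComplete_of_isNilpotent {R : Type u} [CommRing R] {J : Ideal R} (hJ : IsNilpotent J) :
    IsAdicComplete J R := by
  obtain ⟨n, hn⟩ := hJ
  exact
    { haus' := fun x hx => by simpa [hn, SModEq.zero] using hx n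
      prec' := fun f hf => ⟨f n, fun i => by
        rcases le_total i n with h | h
        · exact hf h
        · have := hf h
          rw [hn] at this
          simp only [Ideal.zero_eq_bot, Submodule.bot_smul, SModEq.sub_mem, Submodule.mem_bot, sub_eq_zero] at this
          rw [← this]⟩ }

theorem isNoetherianRing_of_fibre (m : Ideal C) (hm : IsNilpotent m) (hfg : m.FG)
    [IsNoetherianRing (A ⧸ m.map (algebraMap C A))] : IsNoetherianRing A :=
  have : IsAdicComplete (m.map (algebraMap C A)) A := isAdicComplete_of_isNilpotent (by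
    obtain ⟨n, hn⟩ := hm
    exact ⟨n, by rw [← Ideal.map_pow, hn]; exact Ideal.map_bot⟩)
  Compl.isNoetherianRing_of_isAdicComplete (m.map (algebraMap C A)) (hfg.map (algebraMap C A))

end Groth.Agent.EmbDef
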