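import Groth.Agent.Lib.EmbDef.Basic
import Mathlib.RingTheory.Ideal.Quotient.Operations

/-!
Flat lifts of a closed subscheme of an affine scheme along a square zero thickening.  `B` is the coordinate ring of
the subscheme to be lifted, `A → B` surjective, and `I'` lifts it when `I' ⊔ JA = ker (A → B)`.
-/

set_option autoImplicit false

universe u

open TensorProduct

namespace Groth.Agent.EmbDef

variable {C A B : Type u} [CommRing C] [CommRing A] [Algebra C A] [CommRing B] [Algebra A B] [Algebra C B]
  [IsScalarTower C A B] (J : Ideal C)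

/-- `JA`. -/
abbrev JA : Ideal A := J.map (algebraMap C A)

variable (B) in
/-- The reduction of `A ⊗ J` to `B ⊗ J`. -/
noncomputable def psi : A ⊗[C] J →ₗ[A] B ⊗[C] J :=
  TensorProduct.AlgebraTensorModule.rTensor C J (Algebra.linearMap A B)

theorem psi_tmul (a : A) (j : J) : psi B J (a ⊗ₜ j) = algebraMap A B a ⊗ₜ j := rfl

theorem psi_eq (z : A ⊗[C] J) : LinearMap.rTensor J (IsScalarTower.toAlgHom C A B).toLinearMap z = psi B J z := by
  induction z with
  | zero => rw [map_zero, map_zero]
  | tmul a j => rfl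
  | add y z hy hz => rw [map_add, map_add, hy, hz]

theorem psi_surjective (hB : Function.Surjective (algebraMap A B)) : Function.Surjective (psi (A := A) B J) :=
  LinearMap.rTensor_surjective _ (g := (Algebra.linearMap A B).restrictScalars C) hB

theorem theta_mem_JA (z : A ⊗[C] J) : theta (A := A) A J z ∈ JA (A := A) J := by
  have h := (mem_range_theta (A := A) A J _).1 (LinearMap.mem_range_self (theta (A := A) A J) z)
  simpa using h

theorem exists_theta_eq {x : A} (hx : x ∈ JA (A := A) J) : ∃ z, theta (A := A) A J z = x :=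
  (mem_range_theta (A := A) A J x).2 (by simpa using hx)

variable (B) in
/-- `I'` lifts the closed subscheme with coordinate ring `B`. -/
abbrev Lifts (I' : Ideal A) : Prop := I' ⊔ JA (A := A) J = RingHom.ker (algebraMap A B)

variable {J}

theorem Lifts.le {I' : Ideal A} (h : Lifts B J I') : I' ≤ RingHom.ker (algebraMap A B) := h ▸ le_sup_left

theorem Lifts.exists_add {I' : Ideal A} (h : Lifts B J I') {x : A} (hx : algebraMap A B x = 0) :
    ∃ y ∈ I', ∃ z, x = y + theta (A := A) A J z := by
  obtain ⟨y, hy, t, ht, rfl⟩ := Submodule.mem_sup.1 (h.symm ▸ RingHom.mem_ker.2 hx : x ∈ I' ⊔ JA J)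
  obtain ⟨z, hz⟩ := exists_theta_eq J ht
  exact ⟨y, hy, z, by rw [hz]⟩

theorem rTensor_quot_theta {I' : Ideal A} (z : A ⊗[C] J) :
    theta (A := A) (A ⧸ I') J
      (TensorProduct.AlgebraTensorModule.rTensor C J (Ideal.Quotient.mkₐ A I').toLinearMap z) =
      Ideal.Quotient.mk I' (theta (A := A) A J z) := by
  induction z with
  | zero => simp only [map_zero]
  | tmul a j =>
    rw [TensorProduct.AlgebraTensorModule.rTensor_tmul, theta_tmul, theta_tmul]
    exact (map_smul ((Ideal.Quotient.mkₐ C I').toLinearMap) (j : C) a).symm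
  | add y z hy hz => simp only [map_add, hy, hz]

theorem psi_eq_zero_of_mem {I' : Ideal A} (h : Lifts B J I') [Module.Flat C (A ⧸ I')] {z : A ⊗[C] J}
    (hz : theta (A := A) A J z ∈ I') : psi B J z = 0 := by
  let q : A →ₗ[A] A ⧸ I' := (Ideal.Quotient.mkₐ A I').toLinearMap
  have h0 : TensorProduct.AlgebraTensorModule.rTensor C J q z = 0 := theta_injective (A := A) (A ⧸ I') J (by
    rw [map_zero, rTensor_quot_theta]
    exact Ideal.Quotient.eq_zero_iff_mem.2 hz)
  let r : (A ⧸ I') →ₐ[A] B := Ideal.Quotient.liftₐ I' (Algebra.ofId A B) fun a ha => h.le ha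
  have : psi B J z = TensorProduct.AlgebraTensorModule.rTensor C J r.toLinearMap
      (TensorProduct.AlgebraTensorModule.rTensor C J q z) := by
    clear hz h0
    induction z with
    | zero => simp only [map_zero]
    | tmul a j => rfl
    | add y z hy hz => simp only [map_add, hy, hz]
  rw [this, h0, map_zero]

theorem exists_ker_of_psi_eq_zero (hB : Function.Surjective (algebraMap A B)) {z : A ⊗[C] J} (hz : psi B J z = 0) :
    ∃ w : RingHom.ker (algebraMap A B) ⊗[C] J,
      ((Submodule.subtype (RingHom.ker (algebraMap A B))).restrictScalars C).rTensor J w = z :=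
  ((rTensor_exact (f := (Submodule.subtype (RingHom.ker (algebraMap A B))).restrictScalars C) J
    (g := (Algebra.linearMap A B).restrictScalars C) (fun x => ⟨fun hx => ⟨⟨x, hx⟩, rfl⟩, fun ⟨y, hy⟩ => hy ▸ y.2⟩)
    hB) z).1 hz

theorem mem_of_psi_eq_zero (hJ2 : J * J = ⊥) (hB : Function.Surjective (algebraMap A B)) {I₂ : Ideal A}
    (h : Lifts B J I₂) {z : A ⊗[C] J} (hz : psi B J z = 0) : theta (A := A) A J z ∈ I₂ := by
  obtain ⟨w, rfl⟩ := exists_ker_of_psi_eq_zero hB hz
  clear hz
  induction w with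
  | zero => simp only [map_zero]; exact zero_mem _
  | tmul p j =>
    obtain ⟨y, hy, w, hw⟩ := h.exists_add p.2
    change theta (A := A) A J ((p : A) ⊗ₜ j) ∈ I₂
    rw [theta_tmul, Algebra.smul_def, hw, mul_add]
    refine add_mem (Ideal.mul_mem_left _ _ hy) ?_
    have h1 := Ideal.mul_mem_mul (Ideal.mem_map_of_mem (algebraMap C A) j.2) (theta_mem_JA J w)
    rw [← Ideal.map_mul, hJ2, Ideal.map_bot, Ideal.mem_bot] at h1
    rw [h1]
    exact zero_mem _
  | add y z hy hz => simp only [map_add]; exact add_mem hy hz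

theorem flat_of_lift (hJ2 : J * J = ⊥) (hB : Function.Surjective (algebraMap A B)) [Algebra (C ⧸ J) B]
    [IsScalarTower C (C ⧸ J) B] [Module.Flat (C ⧸ J) B]
    {I₂ : Ideal A} (h : Lifts B J I₂)
    (hpsi : ∀ z, theta (A := A) A J z ∈ I₂ → psi B J z = 0) : Module.Flat C (A ⧸ I₂) := by
  let q : A →ₗ[A] A ⧸ I₂ := (Ideal.Quotient.mkₐ A I₂).toLinearMap
  refine FlatH4.flat_of_isNilpotent J ⟨2, by rw [pow_two, hJ2]; rfl⟩ ?_ ?_
  · rw [injective_iff_map_eq_zero]
    intro z hz
    obtain ⟨w, rfl⟩ := LinearMap.rTensor_surjective J (g := q.restrictScalars C) Ideal.Quotient.mk_surjective z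
    have hw : theta (A := A) A J w ∈ I₂ := by
      refine Ideal.Quotient.eq_zero_iff_mem.1 ((rTensor_quot_theta w).symm.trans ?_)
      rw [theta_eq_rid]
      exact (congrArg (TensorProduct.rid C (A ⧸ I₂)) hz).trans (map_zero _)
    obtain ⟨v, rfl⟩ := exists_ker_of_psi_eq_zero hB (hpsi w hw)
    clear hz hw
    induction v with
    | zero => simp only [map_zero]
    | tmul p j =>
      obtain ⟨y, hy, t, ht⟩ := h.exists_add p.2
      change q (p : A) ⊗ₜ[C] j = 0
      rw [ht, map_add, add_tmul, show q y = 0 from Ideal.Quotient.eq_zero_iff_mem.2 hy, zero_tmul, zero_add]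
      exact tmul_eq_zero_of_mem (A := A) J J hJ2 _ (by
        have := Submodule.smul_mem_smul (theta_mem_JA J t) (Submodule.mem_top (R := A) (x := (1 : A ⧸ I₂)))
        rwa [Algebra.smul_def, mul_one] at this) j
    | add y z hy hz => simp only [map_add, hy, hz, add_zero]
  · let g : (A ⧸ I₂) →ₗ[C] B :=
      ((Ideal.Quotient.liftₐ I₂ (Algebra.ofId A B) fun a ha => h.le ha).toLinearMap).restrictScalars C
    have hg : Function.Surjective g := fun b => by
      obtain ⟨a, rfl⟩ := hB b
      exact ⟨Ideal.Quotient.mk I₂ a, rfl⟩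
    have hker : LinearMap.ker g = J • (⊤ : Submodule C (A ⧸ I₂)) := by
      refine le_antisymm (fun x hx => ?_) (Submodule.smul_le.2 fun c hc x _ => ?_)
      · obtain ⟨a, rfl⟩ := Ideal.Quotient.mk_surjective x
        obtain ⟨y, hy, t, rfl⟩ := h.exists_add (LinearMap.mem_ker.1 hx)
        rw [map_add, Ideal.Quotient.eq_zero_iff_mem.2 hy, zero_add]
        clear hx hy
        induction t with
        | zero => simp only [map_zero]; exact zero_mem _
        | tmul a j =>
          rw [theta_tmul]
          exact (map_smul ((Ideal.Quotient.mkₐ C I₂).toLinearMap) (j : C) a) ▸ Submodule.smul_mem_smul j.2 Submodule.mem_top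
        | add y z hy hz => simp only [map_add]; exact add_mem hy hz
      · rw [LinearMap.mem_ker, map_smul, Algebra.smul_def, IsScalarTower.algebraMap_apply C A B,
          show algebraMap A B (algebraMap C A c) = 0 from
            RingHom.mem_ker.1 (h ▸ Submodule.mem_sup_right (Ideal.mem_map_of_mem _ hc)), zero_mul]
    let e : (C ⧸ J) ⊗[C] (A ⧸ I₂) ≃ₗ[C] B :=
      TensorProduct.quotTensorEquivQuotSMul (A ⧸ I₂) J ≪≫ₗ
        (Submodule.quotEquivOfEq _ _ hker.symm) ≪≫ₗ g.quotKerEquivOfSurjective hg
    exact Module.Flat.of_linearEquiv (e.extendScalarsOfSurjective Ideal.Quotient.mk_surjective)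

end Groth.Agent.EmbDef
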