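import Groth.Agent.Lib.FlatH4.LocCrit
import Mathlib.RingTheory.LocalRing.MaximalIdeal.Basic

/-!
Flat modules over a ring with an ideal killed by the maximal ideal: the embedding `M ⊗ J → M`.
-/

set_option autoImplicit false

universe u

open TensorProduct

namespace Groth.Agent.EmbDef

variable {C A : Type u} [CommRing C] [CommRing A] [Algebra C A]
variable (M : Type u) [AddCommGroup M] [Module A M] [Module C M] [IsScalarTower C A M] (J : Ideal C)

/-- The multiplication map. -/
noncomputable def theta : M ⊗[C] J →ₗ[A] M :=
  (TensorProduct.AlgebraTensorModule.rid C A M).toLinearMap ∘ₗ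
    TensorProduct.AlgebraTensorModule.lTensor A M J.subtype

theorem theta_tmul (m : M) (j : J) : theta (A := A) M J (m ⊗ₜ j) = (j : C) • m := rfl

theorem theta_eq_rid (z : M ⊗[C] J) :
    theta (A := A) M J z = TensorProduct.rid C M (LinearMap.lTensor M (Submodule.subtype J) z) := by
  induction z with
  | zero => simp only [map_zero]
  | tmul m j => rfl
  | add y z hy hz => simp only [map_add, hy, hz]

theorem theta_injective [Module.Flat C M] : Function.Injective (theta (A := A) M J) := fun y z h => by
  rw [theta_eq_rid, theta_eq_rid, (TensorProduct.rid C M).injective.eq_iff] at h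
  exact Module.Flat.lTensor_preserves_injective_linearMap J.subtype J.injective_subtype h

theorem mem_range_theta (x : M) :
    x ∈ LinearMap.range (theta (A := A) M J) ↔ x ∈ J.map (algebraMap C A) • (⊤ : Submodule A M) := by
  constructor
  · rintro ⟨z, rfl⟩
    induction z with
    | zero => rw [map_zero]; exact zero_mem _
    | tmul m j =>
      rw [theta_tmul, ← algebraMap_smul A (j : C) m]
      exact Submodule.smul_mem_smul (Ideal.mem_map_of_mem _ j.2) Submodule.mem_top
    | add y z hy hz => rw [map_add]; exact add_mem hy hz
  · intro hx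
    refine Submodule.smul_induction_on hx (fun a ha m _ => ?_) fun y z hy hz => add_mem hy hz
    suffices ∀ m : M, a • m ∈ LinearMap.range (theta (A := A) M J) from this m
    induction ha using Submodule.span_induction with
    | mem a ha =>
      obtain ⟨c, hc, rfl⟩ := ha
      exact fun m => ⟨m ⊗ₜ ⟨c, hc⟩, by rw [theta_tmul, algebraMap_smul]⟩
    | zero => exact fun m => by rw [zero_smul]; exact zero_mem _
    | add a b _ _ ha hb => exact fun m => by rw [add_smul]; exact add_mem (ha m) (hb m)
    | smul r a _ ha => exact fun m => by rw [smul_assoc]; exact Submodule.smul_mem _ r (ha m)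

theorem tmul_eq_zero_of_mem {N : Type u} [AddCommGroup N] [Module A N] [Module C N] [IsScalarTower C A N]
    (mC : Ideal C) (hJ : mC * J = ⊥) (n : N) (hn : n ∈ mC.map (algebraMap C A) • (⊤ : Submodule A N)) (j : J) :
    n ⊗ₜ[C] j = 0 := by
  refine Submodule.smul_induction_on hn (fun a ha m _ => ?_) fun y z hy hz => by rw [add_tmul, hy, hz, add_zero]
  suffices ∀ m : N, (a • m) ⊗ₜ[C] j = 0 from this m
  induction ha using Submodule.span_induction with
  | mem a ha =>
    obtain ⟨c, hc, rfl⟩ := ha
    intro m
    rw [algebraMap_smul, TensorProduct.smul_tmul]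
    have : c • j = (0 : J) := Subtype.ext (by
      have := Ideal.mul_mem_mul hc j.2
      rw [hJ] at this
      simpa using this)
    rw [this, tmul_zero]
  | zero => exact fun m => by rw [zero_smul, zero_tmul]
  | add a b _ _ ha hb => exact fun m => by rw [add_smul, add_tmul, ha, hb, add_zero]
  | smul r a _ ha => exact fun m => by rw [smul_assoc, ← TensorProduct.smul_tmul', ha, smul_zero]

theorem rTensor_bijective_of_tmul_eq_zero {P N Q K : Type u} [AddCommGroup P] [Module C P] [AddCommGroup N]
    [Module C N] [AddCommGroup Q] [Module C Q] [AddCommGroup K] [Module C K] (f : P →ₗ[C] N) (g : N →ₗ[C] Q)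
    (hfg : Function.Exact f g) (hg : Function.Surjective g) (h : ∀ p (x : K), f p ⊗ₜ[C] x = 0) :
    Function.Bijective (g.rTensor K) := by
  refine ⟨(injective_iff_map_eq_zero _).2 fun z hz => ?_, LinearMap.rTensor_surjective _ hg⟩
  obtain ⟨w, rfl⟩ := ((rTensor_exact K hfg hg) z).1 hz
  clear hz
  induction w with
  | zero => exact map_zero _
  | tmul p x => exact h p x
  | add y z hy hz => rw [map_add, hy, hz, add_zero]

/-- Reduction modulo `mC` does not change `- ⊗ J`. -/
theorem rTensor_mkQ_bijective (mC : Ideal C) (hJ : mC * J = ⊥) (P : Submodule A M)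
    (hP : P = mC.map (algebraMap C A) • (⊤ : Submodule A M)) :
    Function.Bijective (LinearMap.rTensor J ((Submodule.mkQ P).restrictScalars C)) :=
  rTensor_bijective_of_tmul_eq_zero (P.subtype.restrictScalars C) (P.mkQ.restrictScalars C)
    (fun x => LinearMap.exact_subtype_mkQ P x) P.mkQ_surjective
    fun p j => tmul_eq_zero_of_mem (A := A) J mC hJ _ (hP ▸ p.2) j

end Groth.Agent.EmbDef
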