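import Groth.Agent.Lib.EmbDef.Regular
import Groth.Agent.Lib.EmbDef.Basic
import Mathlib.RingTheory.Ideal.Quotient.Nilpotent

/-!
Comparison of flat quotients and dimension bookkeeping over an Artinian base.
-/

set_option autoImplicit false

universe u

open RingTheory.Sequence TensorProduct

namespace Groth.Agent.EmbDef

variable {C A : Type u} [CommRing C] [CommRing A] [Algebra C A]

theorem eq_of_flat_quotient (m : Ideal C) (hm : IsNilpotent m) {L I : Ideal A} (hLI : L ≤ I)
    [Module.Flat C (A ⧸ I)] (h : I ≤ L ⊔ m.map (algebraMap C A)) : I = L := by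
  have h1 : I ≤ L ⊔ m.map (algebraMap C A) * I := fun x hx => by
    obtain ⟨l, hl, t, ht, rfl⟩ := Submodule.mem_sup.1 (h hx)
    refine Submodule.add_mem_sup hl ?_
    obtain ⟨z, rfl⟩ := (mem_range_theta (A := A) A m t).2 (by simpa using ht)
    have hz : theta (A := A) A m z ∈ I := (Submodule.add_mem_iff_right I (hLI hl)).1 hx
    have h0 : TensorProduct.AlgebraTensorModule.rTensor C m (Ideal.Quotient.mkₐ A I).toLinearMap z = 0 :=
      theta_injective (A := A) (A ⧸ I) m (by
        rw [map_zero, ← Ideal.Quotient.eq_zero_iff_mem.2 hz]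
        clear hx hz ht
        induction z with
        | zero => simp only [map_zero]
        | tmul a j =>
          rw [TensorProduct.AlgebraTensorModule.rTensor_tmul, theta_tmul, theta_tmul]
          exact (map_smul ((Ideal.Quotient.mkₐ C I).toLinearMap) (j : C) a).symm
        | add y z hy hz => simp only [map_add, hy, hz])
    obtain ⟨w, rfl⟩ := ((rTensor_exact (f := (Submodule.subtype I).restrictScalars C) m
      (g := (Ideal.Quotient.mkₐ A I).toLinearMap.restrictScalars C) (fun x => LinearMap.exact_subtype_mkQ I x)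
      Ideal.Quotient.mk_surjective) z).1 h0
    clear hx hz h0 ht
    induction w with
    | zero => simp only [map_zero]; exact zero_mem _
    | tmul p j =>
      change theta (A := A) A m ((p : A) ⊗ₜ j) ∈ _
      rw [theta_tmul, Algebra.smul_def]
      exact Ideal.mul_mem_mul (Ideal.mem_map_of_mem _ j.2) p.2
    | add y z hy hz => simp only [map_add]; exact add_mem hy hz
  obtain ⟨n, hn⟩ := hm
  have h2 : ∀ i : ℕ, I ≤ L ⊔ (m.map (algebraMap C A)) ^ i * I := fun i => by
    induction i with
    | zero => simp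
    | succ i ih =>
      refine ih.trans (sup_le le_sup_left ?_)
      refine (Ideal.mul_mono_right h1).trans ?_
      rw [Ideal.mul_sup, ← mul_assoc, ← pow_succ]
      exact sup_le_sup Ideal.mul_le_right le_rfl
  refine le_antisymm ?_ hLI
  have h3 := h2 n
  rw [← Ideal.map_pow, hn, Ideal.zero_eq_bot, Ideal.map_bot, Submodule.bot_mul, sup_bot_eq] at h3
  exact h3

theorem isUnit_iff_quotient {R : Type u} [CommRing R] (P : Ideal R) (hP : IsNilpotent P) (a : R) :
    IsUnit (Ideal.Quotient.mk P a) ↔ IsUnit a :=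
  _root_.IsNilpotent.isUnit_quotient_mk_iff hP

theorem isLocalRing_of_quotient {R : Type u} [CommRing R] (P : Ideal R) (hP : IsNilpotent P)
    [IsLocalRing (R ⧸ P)] : IsLocalRing R :=
  haveI : Nontrivial R := (Ideal.Quotient.mk P).domain_nontrivial
  IsLocalRing.of_isUnit_or_isUnit_one_sub_self fun a => by
    rcases IsLocalRing.isUnit_or_isUnit_one_sub_self (Ideal.Quotient.mk P a) with h | h
    · exact Or.inl ((isUnit_iff_quotient P hP a).1 h)
    · exact Or.inr ((isUnit_iff_quotient P hP _).1 (by rwa [map_sub, map_one]))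

/-- Lifts of a regular sequence of a flat deformation are regular on the special fibre. -/
theorem isWeaklyRegular_fibre (m J : Ideal C) (hm : IsNilpotent m) (hfg : m.FG) (hJm : J ≤ m)
    [LocCoh.IsCohenMacaulayLocalRing (A ⧸ m.map (algebraMap C A))] (rs : List A)
    (h : IsRegular (A ⧸ J.map (algebraMap C A)) (rs.map (Ideal.Quotient.mk (J.map (algebraMap C A))))) :
    IsWeaklyRegular (A ⧸ m.map (algebraMap C A)) (rs.map (Ideal.Quotient.mk (m.map (algebraMap C A)))) := by
  set P := m.map (algebraMap C A)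
  set Q := J.map (algebraMap C A)
  have hQP : Q ≤ P := Ideal.map_mono hJm
  have hP : IsNilpotent P := by
    obtain ⟨n, hn⟩ := hm
    exact ⟨n, by rw [← Ideal.map_pow, hn]; exact Ideal.map_bot⟩
  have := isLocalRing_of_quotient P hP
  have := isNoetherianRing_of_fibre (A := A) m hm hfg
  have hQ : Q ≠ ⊤ := ne_top_of_le_ne_top (fun e => by
    obtain ⟨n, hn⟩ := hP
    rw [e, Ideal.top_pow] at hn
    exact (top_ne_bot : (⊤ : Ideal A) ≠ ⊥) hn) hQP
  have : Nontrivial (A ⧸ Q) := Ideal.Quotient.nontrivial_iff.2 hQ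
  have := IsLocalRing.of_surjective' (Ideal.Quotient.mk Q) Ideal.Quotient.mk_surjective
  have hne : Ideal.ofList (rs.map (Ideal.Quotient.mk Q)) ≠ ⊤ := fun e => h.top_ne_smul (by
    rw [smul_eq_mul, Ideal.mul_top, e])
  have hmem : ∀ x ∈ rs, x ∈ IsLocalRing.maximalIdeal A := fun x hx => by
    by_contra hu
    rw [IsLocalRing.mem_maximalIdeal, mem_nonunits_iff, not_not] at hu
    exact hne (Ideal.eq_top_of_isUnit_mem _ (Ideal.subset_span (List.mem_map_of_mem hx)) (hu.map _))
  have hrad : ∀ T : Ideal A, Q ⊔ T ≤ P ⊔ T ∧ P ⊔ T ≤ (Q ⊔ T).radical := fun T => by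
    refine ⟨sup_le_sup_right hQP _, sup_le (fun x hx => ?_) (le_sup_right.trans Ideal.le_radical)⟩
    obtain ⟨n, hn⟩ := hP
    exact ⟨n, by
      have := Ideal.pow_mem_pow hx n
      rw [hn] at this
      rw [Ideal.mem_bot.1 this]
      exact zero_mem _⟩
  refine isWeaklyRegular_of_dim _ (fun x hx => ?_) ?_
  · obtain ⟨y, hy, rfl⟩ := List.mem_map.1 hx
    rw [IsLocalRing.mem_maximalIdeal, mem_nonunits_iff, isUnit_iff_quotient P hP]
    exact (IsLocalRing.mem_maximalIdeal _).1 (hmem y hy)
  · have hd := ringKrullDim_add_length_eq_ringKrullDim_of_isRegular _ h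
    rw [List.length_map] at hd ⊢
    rw [← Ideal.map_ofList, ringKrullDim_eq_of_ringEquiv (DoubleQuot.quotQuotEquivQuotSup Q (Ideal.ofList rs))] at hd
    rw [← Ideal.map_ofList, ringKrullDim_eq_of_ringEquiv (DoubleQuot.quotQuotEquivQuotSup P (Ideal.ofList rs)),
      ← ringKrullDim_quotient_eq_of_radical (hrad _).1 (hrad _).2, hd]
    have h0 := hrad ⊥
    rw [sup_bot_eq, sup_bot_eq] at h0
    exact ringKrullDim_quotient_eq_of_radical h0.1 h0.2

end Groth.Agent.EmbDef
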