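import Groth.Agent.Lib.EmbDef.Translate

/-!
Transfer to ideals of `A/JA`.
-/

set_option autoImplicit false

universe u

open TensorProduct

namespace Groth.Agent.EmbDef

variable {C A : Type u} [CommRing C] [CommRing A] [Algebra C A] {J : Ideal C}
  (I : Ideal (A ⧸ J.map (algebraMap C A)))

theorem mem_ker_iff (a : A) :
    a ∈ RingHom.ker (algebraMap A ((A ⧸ J.map (algebraMap C A)) ⧸ I)) ↔ Ideal.Quotient.mk _ a ∈ I :=
  Ideal.Quotient.eq_zero_iff_mem (I := I)

theorem surjective_algebraMap : Function.Surjective (algebraMap A ((A ⧸ J.map (algebraMap C A)) ⧸ I)) :=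
  Ideal.Quotient.mk_surjective.comp Ideal.Quotient.mk_surjective

theorem lifts_iff (I' : Ideal A) :
    I'.map (Ideal.Quotient.mk (J.map (algebraMap C A))) = I ↔ Lifts ((A ⧸ J.map (algebraMap C A)) ⧸ I) J I' := by
  have hk : RingHom.ker (algebraMap A ((A ⧸ J.map (algebraMap C A)) ⧸ I)) = I.comap (Ideal.Quotient.mk _) :=
    Ideal.ext fun a => mem_ker_iff I a
  have h1 : (I'.map (Ideal.Quotient.mk (J.map (algebraMap C A)))).comap (Ideal.Quotient.mk _) =
      I' ⊔ JA (A := A) J := by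
    rw [Ideal.comap_map_of_surjective _ Ideal.Quotient.mk_surjective, ← RingHom.ker_eq_comap_bot, Ideal.mk_ker]
  unfold Lifts
  rw [hk]
  constructor
  · intro h
    rw [← h1, h]
  · intro h
    rw [← h1] at h
    exact Ideal.comap_injective_of_surjective _ Ideal.Quotient.mk_surjective h

/-- Reduction of the kernel onto `I`. -/
noncomputable def redI : RingHom.ker (algebraMap A ((A ⧸ J.map (algebraMap C A)) ⧸ I)) →ₗ[A] I where
  toFun k := ⟨Ideal.Quotient.mk _ (k : A), (mem_ker_iff I _).1 k.2⟩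
  map_add' a b := Subtype.ext (map_add _ _ _)
  map_smul' r a := Subtype.ext (map_smul ((Ideal.Quotient.mkₐ A (J.map (algebraMap C A))).toLinearMap) r (a : A))

theorem redI_surjective : Function.Surjective (redI (C := C) I) := fun x => by
  obtain ⟨a, ha⟩ := Ideal.Quotient.mk_surjective x.1
  exact ⟨⟨a, (mem_ker_iff I a).2 (ha ▸ x.2)⟩, Subtype.ext ha⟩

theorem exists_factor {N : Type u} [AddCommGroup N] [Module A N]
    (χ : RingHom.ker (algebraMap A ((A ⧸ J.map (algebraMap C A)) ⧸ I)) →ₗ[A] N)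
    (h : ∀ k : RingHom.ker (algebraMap A ((A ⧸ J.map (algebraMap C A)) ⧸ I)), (k : A) ∈ JA J → χ k = 0) :
    ∃ φ : I →ₗ[A] N, φ ∘ₗ redI I = χ := by
  refine ⟨(LinearMap.ker (redI I)).liftQ χ (fun k hk => h k ?_) ∘ₗ
    ((redI I).quotKerEquivOfSurjective (redI_surjective I)).symm.toLinearMap, LinearMap.ext fun k => ?_⟩
  · exact Ideal.Quotient.eq_zero_iff_mem.1 (congrArg Subtype.val (LinearMap.mem_ker.1 hk))
  · rw [LinearMap.comp_apply, LinearMap.comp_apply, LinearEquiv.coe_coe,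
      show ((redI I).quotKerEquivOfSurjective (redI_surjective I)).symm (redI I k) = Submodule.Quotient.mk k from
        (LinearEquiv.symm_apply_eq _).2 rfl, Submodule.liftQ_apply]

/-- The condition of the statements in terms of `IsDiff`. -/
theorem cond_iff {I' I'' : Ideal A} (h' : I'.map (Ideal.Quotient.mk (J.map (algebraMap C A))) = I)
    (h'' : I''.map (Ideal.Quotient.mk (J.map (algebraMap C A))) = I)
    (φ : I →ₗ[A] ((A ⧸ J.map (algebraMap C A)) ⧸ I) ⊗[C] J) :
    (∀ (x : (A ⧸ J.map (algebraMap C A))) (hx : x ∈ I) (x' x'' : A), x' ∈ I' → x'' ∈ I'' →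
      Ideal.Quotient.mk (J.map (algebraMap C A)) x' = x → Ideal.Quotient.mk (J.map (algebraMap C A)) x'' = x →
      ∀ z : A ⊗[C] J, TensorProduct.rid C A (LinearMap.lTensor A (Submodule.subtype J) z) = x'' - x' →
        LinearMap.rTensor J (IsScalarTower.toAlgHom C A ((A ⧸ J.map (algebraMap C A)) ⧸ I)).toLinearMap z =
          φ ⟨x, hx⟩) ↔ IsDiff I' I'' (φ ∘ₗ redI I) := by
  constructor
  · intro h k hk y hy z e
    have hmk : Ideal.Quotient.mk (J.map (algebraMap C A)) (k : A) = Ideal.Quotient.mk _ y :=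
      Ideal.Quotient.eq.2 (e ▸ theta_mem_JA J z)
    rw [← psi_eq]
    exact h _ ((mem_ker_iff I _).1 k.2) y k hy hk hmk.symm rfl z ((theta_eq_rid (A := A) A J z).symm.trans e)
  · intro h x hx x' x'' hx' hx'' e' e'' z hz
    have hk : x'' ∈ RingHom.ker (algebraMap A ((A ⧸ J.map (algebraMap C A)) ⧸ I)) :=
      (mem_ker_iff I _).2 (e'' ▸ hx)
    rw [psi_eq, h ⟨x'', hk⟩ hx'' x' hx' z ((theta_eq_rid (A := A) A J z).trans hz)]
    exact congrArg φ (Subtype.ext e'')

end Groth.Agent.EmbDef
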