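import Groth.Agent.Lib.EmbDef.Affine
import Mathlib.Tactic.LinearCombination

/-!
The torsor of flat lifts of a closed subscheme.
-/

set_option autoImplicit false

universe u

open TensorProduct

namespace Groth.Agent.EmbDef

variable {C A B : Type u} [CommRing C] [CommRing A] [Algebra C A] [CommRing B] [Algebra A B] [Algebra C B]
  [IsScalarTower C A B] {J : Ideal C}

/-- The position of a lift. -/
theorem exists_coord {I' : Ideal A} (h : Lifts B J I') [Module.Flat C (A ⧸ I')] :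
    ∃ c : RingHom.ker (algebraMap A B) →ₗ[A] B ⊗[C] J,
      ∀ (k : RingHom.ker (algebraMap A B)), ∀ y ∈ I', ∀ z, (k : A) = y + theta (A := A) A J z → c k = psi B J z := by
  choose y hy z hz using fun k : RingHom.ker (algebraMap A B) => h.exists_add k.2
  have wd : ∀ (k : RingHom.ker (algebraMap A B)), ∀ y' ∈ I', ∀ z', (k : A) = y' + theta (A := A) A J z' →
      psi B J (z k) = psi B J z' := fun k y' hy' z' e => by
    rw [← sub_eq_zero, ← map_sub]
    refine psi_eq_zero_of_mem h ?_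
    rw [map_sub, show theta (A := A) A J (z k) - theta (A := A) A J z' = y' - y k by linear_combination e - hz k]
    exact sub_mem hy' (hy k)
  refine ⟨{ toFun := fun k => psi B J (z k), map_add' := fun a b => ?_, map_smul' := fun r a => ?_ }, wd⟩
  · refine (wd (a + b) (y a + y b) (add_mem (hy a) (hy b)) (z a + z b) ?_).trans (map_add (psi B J) _ _)
    rw [Submodule.coe_add, map_add, hz a, hz b]
    abel
  · refine (wd (r • a) (r * y a) (I'.mul_mem_left r (hy a)) (r • z a) ?_).trans (map_smul (psi B J) _ _)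
    rw [SetLike.val_smul, map_smul, smul_eq_mul, smul_eq_mul, hz a, mul_add]

/-- The difference condition. -/
def IsDiff (I' I'' : Ideal A) (χ : RingHom.ker (algebraMap A B) →ₗ[A] B ⊗[C] J) : Prop :=
  ∀ (k : RingHom.ker (algebraMap A B)), (k : A) ∈ I'' → ∀ y ∈ I', ∀ z,
    theta (A := A) A J z = k - y → psi B J z = χ k

theorem eq_of_mem_sup {I'' : Ideal A} (h'' : Lifts B J I'') {χ χ' : RingHom.ker (algebraMap A B) →ₗ[A] B ⊗[C] J}
    (hJ : ∀ k : RingHom.ker (algebraMap A B), (k : A) ∈ JA J → χ k = χ' k) (hI : ∀ k : RingHom.ker (algebraMap A B), (k : A) ∈ I'' → χ k = χ' k) : χ = χ' := by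
  refine LinearMap.ext fun k => ?_
  obtain ⟨y, hy, z, hz⟩ := h''.exists_add k.2
  have hzK : theta (A := A) A J z ∈ RingHom.ker (algebraMap A B) :=
    h'' ▸ Submodule.mem_sup_right (theta_mem_JA J z)
  rw [show k = (⟨y, h''.le hy⟩ : RingHom.ker (algebraMap A B)) + ⟨_, hzK⟩ from Subtype.ext hz, map_add, map_add,
    hI ⟨y, h''.le hy⟩ hy, hJ ⟨_, hzK⟩ (theta_mem_JA J z)]

theorem existsUnique_diff {I' I'' : Ideal A} (h : Lifts B J I') (h'' : Lifts B J I'')
    [Module.Flat C (A ⧸ I')] [Module.Flat C (A ⧸ I'')] :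
    ∃! χ : RingHom.ker (algebraMap A B) →ₗ[A] B ⊗[C] J, (∀ k : RingHom.ker (algebraMap A B), (k : A) ∈ JA J → χ k = 0) ∧ IsDiff I' I'' χ := by
  obtain ⟨c, hc⟩ := exists_coord h
  obtain ⟨c'', hc''⟩ := exists_coord h''
  have h0 : ∀ k : RingHom.ker (algebraMap A B), (k : A) ∈ JA J → (c - c'') k = 0 := fun k hk => by
    obtain ⟨t, ht⟩ := exists_theta_eq J hk
    rw [LinearMap.sub_apply, hc k 0 (zero_mem _) t (by rw [ht, zero_add]),
      hc'' k 0 (zero_mem _) t (by rw [ht, zero_add]), sub_self]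
  have hd : IsDiff I' I'' (c - c'') := fun k hk y hy z e => by
    rw [LinearMap.sub_apply, hc k y hy z (by rw [e, add_sub_cancel]),
      hc'' k k hk 0 (by rw [map_zero, add_zero]), map_zero, sub_zero]
  refine ⟨c - c'', ⟨h0, hd⟩, fun χ hχ => eq_of_mem_sup h'' (fun k hk => (hχ.1 k hk).trans (h0 k hk).symm) fun k hk => ?_⟩
  obtain ⟨y, hy, z, hz⟩ := h.exists_add k.2
  have e : theta (A := A) A J z = k - y := by rw [hz, add_sub_cancel_left]
  exact (hχ.2 k hk y hy z e).symm.trans (hd k hk y hy z e)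

theorem existsUnique_translate (hJ2 : J * J = ⊥) (hB : Function.Surjective (algebraMap A B)) [Algebra (C ⧸ J) B]
    [IsScalarTower C (C ⧸ J) B] [Module.Flat (C ⧸ J) B]
    {I' : Ideal A} (h : Lifts B J I') [Module.Flat C (A ⧸ I')]
    (χ : RingHom.ker (algebraMap A B) →ₗ[A] B ⊗[C] J) (hχ : ∀ k : RingHom.ker (algebraMap A B), (k : A) ∈ JA J → χ k = 0) :
    ∃! I'' : Ideal A, Module.Flat C (A ⧸ I'') ∧ Lifts B J I'' ∧ IsDiff I' I'' χ := by
  obtain ⟨c, hc⟩ := exists_coord h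
  let I₂ : Ideal A := (LinearMap.ker (c - χ)).map (Submodule.subtype (RingHom.ker (algebraMap A B)))
  have hmem : ∀ x, x ∈ I₂ ↔ ∃ k : RingHom.ker (algebraMap A B), c k = χ k ∧ (k : A) = x := fun x => by
    change x ∈ Submodule.map _ _ ↔ _
    simp only [Submodule.mem_map, LinearMap.mem_ker, LinearMap.sub_apply, sub_eq_zero, Submodule.subtype_apply]
  have hJK : JA J ≤ RingHom.ker (algebraMap A B) := h ▸ le_sup_right
  have hlift : Lifts B J I₂ := by
    refine le_antisymm (sup_le (fun x hx => ?_) hJK) fun x hx => ?_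
    · obtain ⟨k, -, rfl⟩ := (hmem x).1 hx
      exact k.2
    · obtain ⟨z, hz⟩ := psi_surjective J hB (χ ⟨x, hx⟩ - c ⟨x, hx⟩)
      have hzK : theta (A := A) A J z ∈ RingHom.ker (algebraMap A B) := hJK (theta_mem_JA J z)
      rw [show x = (x + theta (A := A) A J z) + -theta (A := A) A J z by ring]
      refine Submodule.add_mem_sup ((hmem _).2 ⟨⟨x, hx⟩ + ⟨_, hzK⟩, ?_, rfl⟩) (neg_mem (theta_mem_JA J z))
      rw [map_add, map_add, hχ ⟨_, hzK⟩ (theta_mem_JA J z), add_zero,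
        hc ⟨_, hzK⟩ 0 (zero_mem _) z (zero_add _).symm, hz, add_sub_cancel]
  refine ⟨I₂, ⟨flat_of_lift hJ2 hB hlift fun z hz => ?_, hlift, fun k hk y hy z e => ?_⟩, ?_⟩
  · obtain ⟨k, hk, e⟩ := (hmem _).1 hz
    rw [hχ k (e ▸ theta_mem_JA J z), hc k 0 (zero_mem _) z (by rw [e, zero_add])] at hk
    exact hk
  · obtain ⟨k', hk', e'⟩ := (hmem _).1 hk
    rw [Subtype.ext e', hc k y hy z (by rw [e, add_sub_cancel])] at hk'
    exact hk'
  · rintro I₃ ⟨_, hl3, hd3⟩
    have h3 : ∀ (x : A) (hx : x ∈ I₃), c ⟨x, hl3.le hx⟩ = χ ⟨x, hl3.le hx⟩ := fun x hx => by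
      obtain ⟨y, hy, z, hz⟩ := h.exists_add (hl3.le hx)
      rw [hc ⟨x, hl3.le hx⟩ y hy z hz]
      exact hd3 ⟨x, hl3.le hx⟩ hx y hy z (eq_sub_of_add_eq' hz.symm)
    refine le_antisymm (fun x hx => (hmem x).2 ⟨⟨x, hl3.le hx⟩, h3 x hx, rfl⟩) fun x hx => ?_
    obtain ⟨k, hk, rfl⟩ := (hmem x).1 hx
    obtain ⟨y, hy, z, hz⟩ := hl3.exists_add k.2
    have hzK : theta (A := A) A J z ∈ RingHom.ker (algebraMap A B) := hJK (theta_mem_JA J z)
    rw [show k = (⟨y, hl3.le hy⟩ : RingHom.ker (algebraMap A B)) + ⟨_, hzK⟩ from Subtype.ext hz, map_add, map_add,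
      h3 y hy, hχ ⟨_, hzK⟩ (theta_mem_JA J z), add_right_inj, hc ⟨_, hzK⟩ 0 (zero_mem _) z (zero_add _).symm] at hk
    rw [hz]
    exact add_mem hy (mem_of_psi_eq_zero hJ2 hB hl3 hk)

end Groth.Agent.EmbDef
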